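import Groth.Agent.Lib.Helper15.QuotShBridge
import Groth.Agent.Lib.Helper15.FppfBridge4
import Groth.Agent.Lib.Helper16.AlgSp.LfpSp
import Groth.Agent.Lib.Helper16.AlgSp.FinRef
import Groth.Prelude.Def_AlgSpGpd

/-!
# The quotient map of an fppf equivalence relation of algebraic spaces (helper19)
-/

set_option autoImplicit false
set_option linter.style.haveILetI false
universe u
open CategoryTheory CategoryTheory.Limits AlgebraicGeometry MorphismProperty Opposite
open AlgSp Groth.Agent.Helper15 Groth.Agent.Helper16.AS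

namespace Groth.Agent.Helper19.QuotFppf

variable {S : Scheme.{u}}

section eff

variable {R U : Sp S} (s t : R ⟶ U)

theorem rel_injective (h : IsEqvRelSp s t) {Z : Sp S} (x y : Z ⟶ R)
    (h1 : x ≫ t = y ≫ t) (h2 : x ≫ s = y ≫ s) : x = y := by
  apply hom_ext_yon
  intro T a
  apply h.injective T
  · rw [Category.assoc, Category.assoc, h1]
  · rw [Category.assoc, Category.assoc, h2]

/-- `R = U ×_{U/R} U` for an equivalence relation of sheaves. -/
theorem isPullback_quotSpπ (h : IsEqvRelSp s t) :
    IsPullback t s (quotSpπ s t) (quotSpπ s t) := by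
  have hc := (quotSp_condition s t).symm
  set k : R ⟶ pullback (quotSpπ s t) (quotSpπ s t) := pullback.lift t s hc with hk
  haveI : Mono k := ⟨fun x y hxy => by
    apply rel_injective s t h
    · have := congrArg (· ≫ pullback.fst _ _) hxy
      simpa only [Category.assoc, hk, pullback.lift_fst] using this
    · have := congrArg (· ≫ pullback.snd _ _) hxy
      simpa only [Category.assoc, hk, pullback.lift_snd] using this⟩
  haveI : Sheaf.IsLocallySurjective k := by
    apply isLocallySurjective_of_local_lift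
    intro T z
    obtain ⟨Rv, hRv, hl⟩ := exists_local_rel_of_quotSpπ_eq s t h.equivalence
      (z ≫ pullback.fst _ _) (z ≫ pullback.snd _ _)
      (by rw [Category.assoc, Category.assoc, pullback.condition])
    refine ⟨Rv, hRv, fun T' j hj => ?_⟩
    obtain ⟨r, hr1, hr2⟩ := hl j hj
    refine ⟨r, ?_⟩
    apply pullback.hom_ext
    · rw [Category.assoc, hk, pullback.lift_fst, hr1, Category.assoc]
    · rw [Category.assoc, hk, pullback.lift_snd, hr2, Category.assoc]
  haveI : Epi k := (Sheaf.isLocallySurjective_iff_epi k).1 inferInstance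
  haveI : IsIso k := isIso_of_mono_of_epi k
  have hpb := IsPullback.of_hasPullback (quotSpπ s t) (quotSpπ s t)
  refine IsPullback.of_iso hpb (asIso k).symm (Iso.refl _) (Iso.refl _) (Iso.refl _) ?_ ?_ ?_ ?_
  · simp only [Iso.symm_hom, asIso_inv, Iso.refl_hom, Category.comp_id, IsIso.eq_inv_comp, hk,
      pullback.lift_fst]
  · simp only [Iso.symm_hom, asIso_inv, Iso.refl_hom, Category.comp_id, IsIso.eq_inv_comp, hk,
      pullback.lift_snd]
  · simp
  · simp

end eff

/-- an epimorphism of fppf sheaves is refined, over every affine scheme, by a standard fpqc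
covering -/
theorem isStdRefinable_of_epi {H' G : Sp S} (b : H' ⟶ G) [Epi b] :
    IsStdRefinable (fun _ : PUnit.{u + 1} => H') (fun _ => b) := by
  intro Z hZ h
  obtain ⟨Rv, hRv, hlift⟩ := exists_local_lift_of_epi' b h
  obtain ⟨T', c, hcR, hcf, hcp, hcs⟩ := Bridge.exists_family_of_mem_J Rv hRv
  haveI : CompactSpace Z.left := by haveI := hZ; infer_instance
  have hopen : ∀ x, IsOpenMap (c x).left := by
    intro x
    haveI := hcf x
    haveI := hcp x
    exact (c x).left.isOpenMap
  obtain ⟨m, W, d, hd, hfac⟩ := exists_finite_affine_refinement T' c hcf hopen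
    (fun z => by obtain ⟨i, y, hy⟩ := hcs z; exact ⟨i, y, hy⟩)
  refine ⟨m, W, d, hd, fun j => ?_⟩
  obtain ⟨x, e, he⟩ := hfac j
  obtain ⟨τ, hτ⟩ := hlift (c x) (hcR x)
  refine ⟨PUnit.unit, (yon S).map e ≫ τ, ?_⟩
  rw [Category.assoc, hτ, ← Category.assoc, ← Functor.map_comp, he]

/-- **The quotient map of an fppf equivalence relation of algebraic spaces whose quotient is an
algebraic space is surjective, flat and locally of finite presentation.** -/
theorem quotSpπ_fppf {R U : Sp S} (hR : IsAlgSpace R) (hU : IsAlgSpace U) (s t : R ⟶ U)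
    (hj : IsEqvRelSp s t)
    (hs : LocP @Flat s ∧ LocP @LocallyOfFinitePresentation s)
    (hF : IsAlgSpace (quotSp s t)) :
    IsSurjectiveMor (quotSpπ s t) ∧ LocP @Flat (quotSpπ s t) ∧
      LocP @LocallyOfFinitePresentation (quotSpπ s t) := by
  haveI : Epi (quotSpπ s t) := coequalizer.π_epi
  have hpb := isPullback_quotSpπ s t hj
  have hcov := isStdRefinable_of_epi (quotSpπ s t)
  refine ⟨isSurjectiveMor_of_epi _, ?_, ?_⟩
  · exact (isLocalOnBase_std_locP_flat (S := S) (fun _ : PUnit.{u + 1} => U)
      (fun _ => quotSpπ s t) hF (fun _ => hU) hcov (quotSpπ s t) hU (fun _ => R) (fun _ => s)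
      (fun _ => t) (fun _ => hR) (fun _ => hpb)).2 (fun _ => hs.1)
  · exact (isLocalOnBase_std_locP (S := S) goodP_lfp srcEtLoc_lfp (fun _ : PUnit.{u + 1} => U)
      (fun _ => quotSpπ s t) hF (fun _ => hU) hcov (quotSpπ s t) hU (fun _ => R) (fun _ => s)
      (fun _ => t) (fun _ => hR) (fun _ => hpb)).2 (fun _ => hs.2)

end Groth.Agent.Helper19.QuotFppf
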